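import Groth.Agent.H4Stable.Basic
import Mathlib.RingTheory.LocalRing.Module
import Mathlib.RingTheory.Localization.Away.Basic
import Mathlib.RingTheory.TensorProduct.Free
import Mathlib.Data.Int.Interval

/-!
# Contractible complexes of projectives are elementary near a prime
-/

set_option autoImplicit false

universe u

open CategoryTheory CategoryTheory.Limits TensorProduct

noncomputable section

namespace Groth.Agent.H4Stable

variable {R : Type u} [CommRing R]

theorem free_of_hom {S S' M : Type u} [CommRing S] [CommRing S'] [Algebra R S] [Algebra R S'] [AddCommGroup M]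
    [Module R M] (h : S →+* S') (hh : h.comp (algebraMap R S) = algebraMap R S') [Module.Free S (S ⊗[R] M)] :
    Module.Free S' (S' ⊗[R] M) := by
  letI := h.toAlgebra
  haveI : IsScalarTower R S S' := IsScalarTower.of_algebraMap_eq fun r => (RingHom.congr_fun hh r).symm
  exact Module.Free.of_equiv (AlgebraTensorModule.cancelBaseChange R S S' S' M)

theorem free_congr {S M : Type u} [CommRing S] [AddCommGroup M] [Module R M] {A1 A2 : Algebra R S} (e : A1 = A2)
    (h : letI := A1; Module.Free S (S ⊗[R] M)) : letI := A2; Module.Free S (S ⊗[R] M) := by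
  subst e; exact h

theorem free_obj {S : Type u} [CommRing S] [alg : Algebra R S] (M : ModuleCat.{u} R) (h : Module.Free S (S ⊗[R] M)) :
    Module.Free S ((ModuleCat.extendScalars.{u, u, u} (algebraMap R S)).obj M) :=
  free_congr (A1 := alg) (A2 := (algebraMap R S).toAlgebra) (Algebra.algebra_ext _ _ fun _ => rfl) h

theorem finite_obj {S : Type u} [CommRing S] [Algebra R S] (M : ModuleCat.{u} R) [Module.Finite R M] :
    Module.Finite S ((ModuleCat.extendScalars.{u, u, u} (algebraMap R S)).obj M) :=
  letI := (algebraMap R S).toAlgebra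
  inferInstanceAs (Module.Finite S (S ⊗[R] M))

/-- A finite projective module is free near a prime. -/
theorem exists_free_away (p : Ideal R) [p.IsPrime] (M : Type u) [AddCommGroup M] [Module R M] [Module.Finite R M]
    [Module.Projective R M] :
    ∃ r : R, r ∉ p ∧ Module.Free (Localization.Away r) (Localization.Away r ⊗[R] M) := by
  haveI : Module.FinitePresentation R M := Module.finitePresentation_of_projective R M
  haveI : Module.Free (Localization.AtPrime p) (LocalizedModule p.primeCompl M) := by
    haveI : Module.Free (Localization.AtPrime p) (Localization.AtPrime p ⊗[R] M) := Module.free_of_flat_of_isLocalRing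
    exact Module.Free.of_equiv (LocalizedModule.equivTensorProduct p.primeCompl M).symm
  obtain ⟨r, hr, hr', -⟩ := Module.FinitePresentation.exists_free_localizedModule_powers
    p.primeCompl (LocalizedModule.mkLinearMap p.primeCompl M) (Localization.AtPrime p)
  exact ⟨r, hr, Module.Free.of_equiv (LocalizedModule.equivTensorProduct (Submonoid.powers r) M)⟩

/-- Finitely many finite projective modules are simultaneously free near a prime. -/
theorem exists_free_away_finset (p : Ideal R) [p.IsPrime] {ι : Type*} (s : Finset ι) (M : ι → ModuleCat.{u} R)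
    (hM : ∀ i, Module.Finite R (M i) ∧ Module.Projective R (M i)) :
    ∃ r : R, r ∉ p ∧ ∀ i ∈ s, Module.Free (Localization.Away r) (Localization.Away r ⊗[R] M i) := by
  classical
  induction s using Finset.induction_on with
  | empty => exact ⟨1, fun h => Ideal.IsPrime.ne_top ‹_› ((Ideal.eq_top_iff_one p).2 h), by simp⟩
  | insert i s _ ih =>
    obtain ⟨r, hr, hs⟩ := ih
    haveI := (hM i).1
    haveI := (hM i).2
    obtain ⟨r', hr', hi⟩ := exists_free_away p (M i)
    refine ⟨r * r', fun h => (Ideal.IsPrime.mem_or_mem ‹_› h).elim hr hr', fun j hj => ?_⟩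
    have hu : IsUnit (algebraMap R (Localization.Away (r * r')) r) ∧ IsUnit (algebraMap R (Localization.Away (r * r')) r') := by
      rw [← IsUnit.mul_iff, ← map_mul]
      exact IsLocalization.Away.algebraMap_isUnit (r * r')
    rcases Finset.mem_insert.1 hj with rfl | hj
    · haveI := hi
      exact free_of_hom (IsLocalization.Away.lift (S := Localization.Away r') r' hu.2)
        (IsLocalization.Away.lift_comp r' hu.2)
    · haveI := hs j hj
      exact free_of_hom (IsLocalization.Away.lift (S := Localization.Away r) r hu.1)
        (IsLocalization.Away.lift_comp r hu.1)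

/-- The image of the differential of a contractible complex is a retract. -/
theorem exists_range_factor (E : DRing.Cx R) (h : Homotopy (𝟙 E) 0) (i : ℤ) :
    ∃ (B : ModuleCat.{u} R) (p : E.X i ⟶ B) (j : B ⟶ E.X (i + 1)) (s : B ⟶ E.X i) (q : E.X (i + 1) ⟶ B),
      p ≫ j = E.d i (i + 1) ∧ s ≫ p = 𝟙 B ∧ j ≫ q = 𝟙 B := by
  have hd : E.d i (i + 1) ≫ h.hom (i + 1) i ≫ E.d i (i + 1) = E.d i (i + 1) := by
    have hc := h.comm i
    rw [dNext_eq (i' := i + 1) _ rfl, prevD_eq (j' := i - 1) _ (sub_add_cancel i 1), HomologicalComplex.zero_f,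
      add_zero, HomologicalComplex.id_f] at hc
    have := congrArg (fun x => x ≫ E.d i (i + 1)) hc
    simp only [Category.id_comp, Preadditive.add_comp, Category.assoc, HomologicalComplex.d_comp_d, comp_zero,
      add_zero] at this
    exact this.symm
  let L := (E.d i (i + 1)).hom
  let B : ModuleCat.{u} R := ModuleCat.of R (LinearMap.range L)
  let p : E.X i ⟶ B := ModuleCat.ofHom L.rangeRestrict
  let j : B ⟶ E.X (i + 1) := ModuleCat.ofHom (LinearMap.range L).subtype
  have hpj : p ≫ j = E.d i (i + 1) := rfl
  refine ⟨B, p, j, j ≫ h.hom (i + 1) i, h.hom (i + 1) i ≫ p, hpj, ?_, ?_⟩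
  all_goals
    refine ModuleCat.hom_ext (LinearMap.ext fun ⟨x, y, hy⟩ => Subtype.ext ?_)
    subst hy
    exact LinearMap.congr_fun (congrArg ModuleCat.Hom.hom hd) y

/-- Contractible complexes of projectives become elementary near a prime. -/
theorem exists_elementary (p : Ideal R) [p.IsPrime] {a b : ℤ} {E : DRing.Cx R} (hE : DRing.VanishesOutside E a b)
    (hEp : DRing.TermwiseFiniteProjective E) (h : Homotopy (𝟙 E) 0) :
    ∃ r : R, r ∉ p ∧ ∀ r' : R, r ∣ r' →
      let L := ((ModuleCat.extendScalars.{u, u, u} (algebraMap R (Localization.Away r'))).mapHomologicalComplex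
        (ComplexShape.up ℤ)).obj E
      DRing.TermwiseFiniteFree L ∧
        ∀ i : ℤ, Module.Free (Localization.Away r') (LinearMap.range (L.d i (i + 1)).hom) := by
  choose B pr j s q hpj hsp hjq using exists_range_factor E h
  let M : Bool × ℤ → ModuleCat.{u} R := fun x => bif x.1 then E.X x.2 else B x.2
  have hM : ∀ x, Module.Finite R (M x) ∧ Module.Projective R (M x) := by
    rintro ⟨_ | _, i⟩
    · exact fp_of_retract (hEp i) (s i) (pr i) (hsp i)
    · exact hEp i
  obtain ⟨r, hr, hfree⟩ := exists_free_away_finset p (Finset.univ ×ˢ Finset.Icc a b) M hM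
  refine ⟨r, hr, fun r' hrr' => ?_⟩
  intro L
  let G := ModuleCat.extendScalars.{u, u, u} (algebraMap R (Localization.Away r'))
  haveI : G.Additive :=
    (ModuleCat.extendRestrictScalarsAdj.{u, u, u} (algebraMap R (Localization.Away r'))).left_adjoint_additive
  have hfr : ∀ x, Module.Free (Localization.Away r') (Localization.Away r' ⊗[R] M x) := by
    rintro ⟨c, i⟩
    by_cases hi : a ≤ i ∧ i ≤ b
    · haveI := hfree (c, i) (Finset.mem_product.2 ⟨Finset.mem_univ c, Finset.mem_Icc.2 hi⟩)
      have hu : IsUnit (algebraMap R (Localization.Away r') r) :=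
        isUnit_of_dvd_unit (map_dvd _ hrr') (IsLocalization.Away.algebraMap_isUnit r')
      exact free_of_hom (IsLocalization.Away.lift (S := Localization.Away r) r hu)
        (IsLocalization.Away.lift_comp r hu)
    · have hz : IsZero (E.X i) := hE i (by omega)
      have hB : IsZero (B i) := (IsZero.iff_id_eq_zero _).2 (by rw [← hsp i, hz.eq_of_src (pr i) 0, comp_zero])
      have : Subsingleton (M (c, i)) := by
        cases c
        · exact ModuleCat.subsingleton_of_isZero hB
        · exact ModuleCat.subsingleton_of_isZero hz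
      infer_instance
  refine ⟨fun i => ⟨?_, free_obj (E.X i) (hfr (true, i))⟩, fun i => ?_⟩
  · haveI := (hEp i).1
    exact finite_obj (E.X i)
  · haveI : Module.Free (Localization.Away r') (G.obj (B i)) := free_obj (B i) (hfr (false, i))
    have hd : L.d i (i + 1) = G.map (pr i) ≫ G.map (j i) :=
      (congrArg (fun f => G.map f) (hpj i).symm).trans (G.map_comp _ _)
    have hsurj : Function.Surjective (G.map (pr i)).hom := fun z => ⟨(G.map (s i)).hom z, by
      rw [← LinearMap.comp_apply, ← ModuleCat.hom_comp, ← G.map_comp, hsp, G.map_id]; rfl⟩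
    have hinj : Function.Injective (G.map (j i)).hom := Function.LeftInverse.injective (g := (G.map (q i)).hom) fun z => by
      rw [← LinearMap.comp_apply, ← ModuleCat.hom_comp, ← G.map_comp, hjq, G.map_id]; rfl
    have hr2 : LinearMap.range (L.d i (i + 1)).hom = LinearMap.range (G.map (j i)).hom := by
      rw [hd]
      exact LinearMap.range_comp_of_range_eq_top _ (LinearMap.range_eq_top.2 hsurj)
    exact Module.Free.of_equiv ((LinearEquiv.ofInjective _ hinj).trans (LinearEquiv.ofEq _ _ hr2.symm))

end Groth.Agent.H4Stable
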