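import Groth.Prelude.Def_DRing2
import Groth.Agent.H16Derived.ProjLift
import Mathlib.Algebra.Homology.HomotopyCategory.Pretriangulated
import Mathlib.Algebra.Category.ModuleCat.ChangeOfRings
import Mathlib.Algebra.Category.ModuleCat.Biproducts
import Mathlib.CategoryTheory.Adjunction.Additive
import Mathlib.RingTheory.Finiteness.Prod
import Mathlib.RingTheory.Localization.Free
import Mathlib.RingTheory.Spectrum.Prime.FreeLocus

/-!
# Quasi-isomorphic complexes of projectives are stably isomorphic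
-/

set_option autoImplicit false

universe u

open CategoryTheory CategoryTheory.Limits

attribute [local instance] HasDerivedCategory.standard

noncomputable section

namespace Groth.Agent.H4Stable

variable {R : Type u} [CommRing R]

/-- A retract of a finite projective module. -/
theorem fp_of_retract {X Y : ModuleCat.{u} R} (hX : Module.Finite R X ∧ Module.Projective R X) (i : Y ⟶ X)
    (r : X ⟶ Y) (h : i ≫ r = 𝟙 Y) : Module.Finite R Y ∧ Module.Projective R Y := by
  have := hX.1
  have := hX.2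
  have hh : r.hom ∘ₗ i.hom = LinearMap.id := congrArg ModuleCat.Hom.hom h
  exact ⟨Module.Finite.of_surjective r.hom fun y => ⟨i.hom y, LinearMap.congr_fun hh y⟩,
    Module.Projective.of_split i.hom r.hom hh⟩

theorem fp_prod {X Y : ModuleCat.{u} R} (hX : Module.Finite R X ∧ Module.Projective R X)
    (hY : Module.Finite R Y ∧ Module.Projective R Y) :
    Module.Finite R (ModuleCat.of R (X × Y)) ∧ Module.Projective R (ModuleCat.of R (X × Y)) :=
  haveI := hX.1
  haveI := hX.2
  haveI := hY.1
  haveI := hY.2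
  ⟨inferInstanceAs (Module.Finite R (X × Y)), inferInstanceAs (Module.Projective R (X × Y))⟩

theorem fp_biprod {X Y Z : ModuleCat.{u} R} (hX : Module.Finite R X ∧ Module.Projective R X)
    (hY : Module.Finite R Y ∧ Module.Projective R Y) (e : Z ≅ X ⊞ Y) :
    Module.Finite R Z ∧ Module.Projective R Z :=
  fp_of_retract (fp_prod hX hY) (e ≪≫ ModuleCat.biprodIsoProd X Y).hom (e ≪≫ ModuleCat.biprodIsoProd X Y).inv
    (e ≪≫ ModuleCat.biprodIsoProd X Y).hom_inv_id

theorem isKProjective_of_fp {X : DRing.Cx R} {a b : ℤ} (hX : DRing.VanishesOutside X a b)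
    (hXp : DRing.TermwiseFiniteProjective X) : CochainComplex.IsKProjective X := by
  haveI : CochainComplex.IsStrictlyLE X b := (CochainComplex.isStrictlyLE_iff X b).2 fun i hi => hX i (Or.inr hi)
  haveI : ∀ n, Projective (X.X n) := fun n =>
    haveI := (hXp n).2
    (IsProjective.iff_projective (R := R) (X.X n)).1 inferInstance
  exact CochainComplex.isKProjective_of_projective X b

theorem exists_homotopy_zero_of_isZero {X : DRing.Cx R} {a b : ℤ} (hX : DRing.VanishesOutside X a b)
    (hXp : DRing.TermwiseFiniteProjective X) (hz : DerivedCategory.Q.map (𝟙 X) = 0) :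
    Nonempty (Homotopy (𝟙 X) 0) :=
  haveI := isKProjective_of_fp hX hXp
  H16Derived.ProjLift.homotopic_of_Q_map X X (𝟙 X) 0 (hz.trans (DerivedCategory.Q.map_zero _ _).symm)

/-- The contractible complex covering a complex. -/
abbrev cover (N : DRing.Cx R) : DRing.Cx R := (CochainComplex.mappingCone (𝟙 N))⟦(-1 : ℤ)⟧

/-- The covering map. -/
def coverπ (N : DRing.Cx R) : cover N ⟶ N :=
  ((CochainComplex.mappingCone.triangle (𝟙 N)).mor₃)⟦(-1 : ℤ)⟧' ≫ (shiftShiftNeg N (1 : ℤ)).hom

theorem exists_stable_iso (M N : DRing.Cx R) (a b : ℤ) (hM : DRing.VanishesOutside M a b)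
    (hN : DRing.VanishesOutside N a b) (hMp : DRing.TermwiseFiniteProjective M)
    (hNp : DRing.TermwiseFiniteProjective N) (α : DRing.toD M ≅ DRing.toD N) :
    ∃ (E A : DRing.Cx R), DRing.VanishesOutside E a (b + 1) ∧ DRing.VanishesOutside A a (b + 1) ∧
      DRing.TermwiseFiniteProjective E ∧ DRing.TermwiseFiniteProjective A ∧
      Nonempty (Homotopy (𝟙 E) 0) ∧ Nonempty (Homotopy (𝟙 A) 0) ∧ Nonempty (M ⊞ E ≅ N ⊞ A) := by
  let E := cover N
  have hEv : DRing.VanishesOutside E a (b + 1) := fun i hi =>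
    (CochainComplex.mappingCone.isZero_X_iff (𝟙 N) (i + -1)).2 ⟨hN _ (by omega), hN _ (by omega)⟩
  have hEp : DRing.TermwiseFiniteProjective E := fun i =>
    fp_biprod (hNp (i + -1 + 1)) (hNp (i + -1))
      (HomologicalComplex.homotopyCofiber.XIsoBiprod (𝟙 N) (i + -1) (i + -1 + 1) rfl)
  have hEz : IsZero (DRing.toD E) := by
    have hz : IsZero (DerivedCategory.Q.obj (CochainComplex.mappingCone (𝟙 N))) :=
      Pretriangulated.Triangle.isZero₃_of_isIso₁ _ (DerivedCategory.mappingCone_triangle_distinguished (𝟙 N))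
        (show IsIso (DerivedCategory.Q.map (𝟙 N)) by infer_instance)
    exact ((CategoryTheory.shiftFunctor _ (-1 : ℤ)).map_isZero hz).of_iso
      ((DerivedCategory.Q.commShiftIso (-1 : ℤ)).app _)
  haveI := isKProjective_of_fp hM hMp
  haveI := isKProjective_of_fp hN hNp
  obtain ⟨φ, hφ⟩ := H16Derived.ProjLift.Q_map_surjective M N α.hom
  obtain ⟨ψ, hψ⟩ := H16Derived.ProjLift.Q_map_surjective N M α.inv
  obtain ⟨h2⟩ := H16Derived.ProjLift.homotopic_of_Q_map N N (ψ ≫ φ) (𝟙 N) (by
    rw [DerivedCategory.Q.map_comp, DerivedCategory.Q.map_id, hφ, hψ, Iso.inv_hom_id])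
  obtain ⟨h1⟩ := H16Derived.ProjLift.homotopic_of_Q_map M M (φ ≫ ψ) (𝟙 M) (by
    rw [DerivedCategory.Q.map_comp, DerivedCategory.Q.map_id, hφ, hψ, Iso.hom_inv_id])
  let g : M ⊞ E ⟶ N := biprod.desc φ (coverπ N)
  have hepi : ∀ p, Epi (g.f p) := fun p => by
    have hπ : Epi ((coverπ N).f p) := by
      have h3 : Epi ((CochainComplex.mappingCone.triangle (𝟙 N)).mor₃.f (p + -1)) :=
        ((CochainComplex.mappingCone.triangleRotateShortComplexSplitting (𝟙 N) (p + -1)).shortExact).epi_g
      show Epi (((CochainComplex.mappingCone.triangle (𝟙 N)).mor₃).f (p + -1) ≫ (shiftShiftNeg N (1 : ℤ)).hom.f p)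
      exact @epi_comp _ _ _ _ _ _ h3 _ (@IsIso.epi_of_iso _ _ _ _ _ ((HomologicalComplex.eval _ _ p).mapIso (shiftShiftNeg N (1 : ℤ))).isIso_hom)
    have hc : (biprod.inr : E ⟶ M ⊞ E).f p ≫ g.f p = (coverπ N).f p := by
      rw [← HomologicalComplex.comp_f, biprod.inr_desc]
    exact epi_of_epi_fac hc
  let s0 : N ⟶ M ⊞ E := ψ ≫ biprod.inl
  have hs0 : s0 ≫ g = ψ ≫ φ := by rw [Category.assoc, biprod.inl_desc]
  have hlift : ∀ i j, ∃ t : N.X i ⟶ (M ⊞ E).X j, t ≫ g.f j = h2.hom i j := fun i j =>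
    haveI := hepi j
    haveI := (hNp i).2
    haveI : Projective (N.X i) := (IsProjective.iff_projective (R := R) (N.X i)).1 inferInstance
    ⟨Projective.factorThru (h2.hom i j) (g.f j), Projective.factorThru_comp _ _⟩
  choose t ht using hlift
  let s : N ⟶ M ⊞ E := s0 - Homotopy.nullHomotopicMap t
  have hsg : s ≫ g = 𝟙 N := by
    rw [Preadditive.sub_comp, hs0, Homotopy.nullHomotopicMap_comp, sub_eq_iff_eq_add']
    ext n : 1
    rw [h2.comm n, HomologicalComplex.add_f_apply]
    congr 1
    simp only [ht]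
    rfl
  let ι := kernel.ι g
  let r : M ⊞ E ⟶ kernel g := kernel.lift g (𝟙 _ - g ≫ s) (by
    rw [Preadditive.sub_comp, Category.id_comp, Category.assoc, hsg, Category.comp_id, sub_self])
  have hrι : r ≫ ι = 𝟙 _ - g ≫ s := kernel.lift_ι _ _ _
  have hιr : ι ≫ r = 𝟙 _ := by
    rw [← cancel_mono (kernel.ι g), Category.assoc, hrι, Preadditive.comp_sub, Category.comp_id, ← Category.assoc,
      kernel.condition, zero_comp, sub_zero, Category.id_comp]
  have hsr : s ≫ r = 0 := by
    rw [← cancel_mono (kernel.ι g), Category.assoc, hrι, Preadditive.comp_sub, Category.comp_id, ← Category.assoc,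
      hsg, Category.id_comp, sub_self, zero_comp]
  let eMN : M ⊞ E ≅ N ⊞ kernel g :=
    { hom := biprod.lift g r
      inv := biprod.desc s ι
      hom_inv_id := by rw [biprod.lift_desc, hrι, add_sub_cancel]
      inv_hom_id := by
        apply biprod.hom_ext' <;> apply biprod.hom_ext
        · simp [hsg]
        · simp [hsr]
        · simp [ι]
        · simp [hιr] }
  have hBp : DRing.TermwiseFiniteProjective (M ⊞ E) := fun i =>
    fp_biprod (hMp i) (hEp i) ((HomologicalComplex.eval _ _ i).mapBiprod M E)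
  have hAp : DRing.TermwiseFiniteProjective (kernel g) := fun i => fp_of_retract (hBp i) (ι.f i) (r.f i) (by
    rw [← HomologicalComplex.comp_f, hιr, HomologicalComplex.id_f])
  have hAv : DRing.VanishesOutside (kernel g) a (b + 1) := fun i hi => by
    haveI : Mono (ι.f i) := mono_of_mono_fac (show ι.f i ≫ r.f i = 𝟙 _ by
      rw [← HomologicalComplex.comp_f, hιr, HomologicalComplex.id_f])
    exact IsZero.of_mono (ι.f i) (IsZero.of_iso ((biprod_isZero_iff _ _).2 ⟨hM i (by omega), hEv i hi⟩)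
      ((HomologicalComplex.eval _ _ i).mapBiprod M E))
  refine ⟨E, kernel g, hEv, hAv, hEp, hAp,
    exists_homotopy_zero_of_isZero hEv hEp (hEz.eq_of_src _ _), exists_homotopy_zero_of_isZero hAv hAp ?_, ⟨eMN⟩⟩
  have hg : IsIso (DerivedCategory.Q.map g) := by
    have h0 : DerivedCategory.Q.map (biprod.snd : M ⊞ E ⟶ E) ≫ DerivedCategory.Q.map (biprod.inr : E ⟶ M ⊞ E) = 0 := by
      rw [hEz.eq_of_tgt (DerivedCategory.Q.map (biprod.snd : M ⊞ E ⟶ E)) 0, zero_comp]
    haveI : IsIso (DerivedCategory.Q.map (biprod.inl : M ⟶ M ⊞ E)) := by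
      refine ⟨DerivedCategory.Q.map biprod.fst, ?_, ?_⟩
      · rw [← DerivedCategory.Q.map_comp, biprod.inl_fst, DerivedCategory.Q.map_id]
      · rw [← add_zero (DerivedCategory.Q.map (biprod.fst : M ⊞ E ⟶ M) ≫ _), ← h0, ← DerivedCategory.Q.map_comp,
          ← DerivedCategory.Q.map_comp, ← Functor.map_add, biprod.total, DerivedCategory.Q.map_id]
    haveI : IsIso (DerivedCategory.Q.map (biprod.inl ≫ g)) := by
      rw [biprod.inl_desc, hφ]; infer_instance
    exact IsIso.of_isIso_fac_left (DerivedCategory.Q.map_comp (biprod.inl : M ⟶ M ⊞ E) g).symm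
  have hι0 : DerivedCategory.Q.map ι = 0 := by
    rw [← cancel_mono (DerivedCategory.Q.map g), ← DerivedCategory.Q.map_comp, kernel.condition, Functor.map_zero, zero_comp]
  rw [← hιr, DerivedCategory.Q.map_comp, hι0, zero_comp]

end Groth.Agent.H4Stable
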